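import Mathlib
import Cfsg.Prelude.Def_OddOrderLocal
import Cfsg.Statements.S1350
import Cfsg.Statements.S1405
import Cfsg.Statements.S1415
import Cfsg.Statements.S1417
import Cfsg.Statements.S1418
import Cfsg.Statements.S1428
import Cfsg.Agent.S0033
import Cfsg.Agent.Lib.Helper9.CN
import Cfsg.Agent.Lib.Helper1.RankTwoLin
import Cfsg.Agent.Lib.Helper35.BG.Basic
import Cfsg.Agent.Lib.Helper35.BG.FrobQ
import Cfsg.Agent.Lib.Helper27.BG.SigmaBasic
import Cfsg.Agent.Lib.Helper46.BG.S1414Core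
import Cfsg.Agent.Lib.Helper47.BG.SigmaNe
import Cfsg.Agent.Lib.Helper67.BG.Basics
import Cfsg.Agent.Lib.Helper67.BG.HallUtil
import Cfsg.Agent.Lib.Helper69.PCount
import Cfsg.Agent.Lib.Helper76.BG.S1420Core

/-!
Bender–Glauberman campaign: the end of the `S1430`-free proof of the σ-partition
(B&G Theorem 13.9; paper proof by helper20, note 1999), **Case II** of its step (12):

`P` of prime order `p` with `N(P) ≤ M*` and `p ∈ τ₂(M*)`; `X` of prime order `r`, `r ∉ σ(M*)`,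
centralizing `P`, with `N(X) ≤ M`, where `M` has `p`-rank one, `σ(M) ∩ σ(M*) = ∅` and `C_M(P)` is a
`(σ(M) ∪ {p})`-group.  This is impossible.
-/

set_option autoImplicit false

namespace Cfsg.Agent.Lib.Helper47.BG

open Cfsg
open scoped Pointwise
open scoped commutatorElement

universe u

section Pure

variable {G : Type*} [Group G]

/-- If `B` normalizes `S`, every element of `S ⊔ B` is a product `s * b`. -/
theorem exists_mul_of_mem_sup_of_normalizes {S B : Subgroup G}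
    (hBS : B ≤ Subgroup.normalizer (S : Set G)) {w : G} (hw : w ∈ S ⊔ B) :
    ∃ s ∈ S, ∃ b ∈ B, w = s * b := by
  have h2 : (((S ⊔ B : Subgroup G)) : Set G) = (B : Set G) * (S : Set G) := by
    rw [sup_comm]
    exact Subgroup.coe_mul_of_left_le_normalizer_right B S hBS
  have hw' : w⁻¹ ∈ (((S ⊔ B : Subgroup G)) : Set G) := (S ⊔ B).inv_mem hw
  rw [h2] at hw'
  obtain ⟨b, hb, s, hs, hbs⟩ := hw'
  refine ⟨s⁻¹, S.inv_mem hs, b⁻¹, B.inv_mem hb, ?_⟩
  have hbs' : b * s = w⁻¹ := hbs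
  have : w = (b * s)⁻¹ := by rw [hbs', inv_inv]
  rw [this, mul_inv_rev]

/-- **Thompson application.** An element `x` of prime order `r` normalizes `S` and `B`, `B`
normalizes `S`, `x` has no nontrivial fixed point on `S` nor on `B`, and `|S|`, `|B|` are coprime.
Then `B` centralizes `S`. -/
theorem le_centralizer_of_fpf_prime [Finite G] {S B : Subgroup G} {x : G} {r : ℕ} (hr : r.Prime)
    (hxr : x ^ r = 1)
    (hxS : x ∈ Subgroup.normalizer (S : Set G)) (hxB : x ∈ Subgroup.normalizer (B : Set G))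
    (hBS : B ≤ Subgroup.normalizer (S : Set G))
    (hS : S ⊓ Subgroup.centralizer ({x} : Set G) = ⊥)
    (hB : B ⊓ Subgroup.centralizer ({x} : Set G) = ⊥)
    (hcop : (Nat.card S).Coprime (Nat.card B)) :
    B ≤ Subgroup.centralizer (S : Set G) := by
  have hSB : S ⊓ B = ⊥ := (Subgroup.disjoint_of_coprime_natCard hcop).eq_bot
  by_cases hB1 : B = ⊥
  · rw [hB1]; exact bot_le
  obtain ⟨W, hW⟩ : ∃ W : Subgroup G, W = S ⊔ B := ⟨_, rfl⟩
  have hxW : x ∈ Subgroup.normalizer (W : Set G) := by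
    rw [hW]
    exact Subgroup.normalizer_inf_normalizer_le_normalizer_sup S B ⟨hxS, hxB⟩
  obtain ⟨φ, hφ⟩ : ∃ φ : MulAut W, φ = W.normalizerMonoidHom ⟨x, hxW⟩ := ⟨_, rfl⟩
  have hφv : ∀ w : W, ((φ w : W) : G) = x * w * x⁻¹ := by
    intro w
    rw [hφ]
    rfl
  have hcomm : ∀ g : G, x * g * x⁻¹ = g → g ∈ Subgroup.centralizer ({x} : Set G) := by
    intro g hg
    rw [Subgroup.mem_centralizer_iff]
    intro y hy
    rw [Set.mem_singleton_iff] at hy
    subst hy
    calc y * g = y * g * y⁻¹ * y := by group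
      _ = g * y := by rw [hg]
  have hfpf : MonoidHom.FixedPointFree (φ : W →* W) := by
    intro w hw
    have h1 : x * (w : G) * x⁻¹ = w := by
      have := congrArg (fun t : W => (t : G)) hw
      simpa [hφv] using this
    have hwSB : (w : G) ∈ S ⊔ B := by rw [← hW]; exact w.2
    obtain ⟨s, hs, b, hb, hsb⟩ := exists_mul_of_mem_sup_of_normalizes hBS hwSB
    have hs' : x * s * x⁻¹ ∈ S := (Subgroup.mem_normalizer_iff.mp hxS s).mp hs
    have hb' : x * b * x⁻¹ ∈ B := (Subgroup.mem_normalizer_iff.mp hxB b).mp hb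
    have h2 : (x * s * x⁻¹) * (x * b * x⁻¹) = s * b := by
      have e : (x * s * x⁻¹) * (x * b * x⁻¹) = x * (s * b) * x⁻¹ := by group
      rw [e, ← hsb, h1]
    have h3 : s⁻¹ * (x * s * x⁻¹) = b * (x * b * x⁻¹)⁻¹ := by
      have : s⁻¹ * ((x * s * x⁻¹) * (x * b * x⁻¹)) * (x * b * x⁻¹)⁻¹ = s⁻¹ * (s * b) * (x * b * x⁻¹)⁻¹ := by
        rw [h2]
      simpa [mul_assoc] using this
    have h4 : s⁻¹ * (x * s * x⁻¹) ∈ S ⊓ B :=
      ⟨S.mul_mem (S.inv_mem hs) hs', h3 ▸ B.mul_mem hb (B.inv_mem hb')⟩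
    rw [hSB, Subgroup.mem_bot] at h4
    have h5 : x * s * x⁻¹ = s := by
      have := congrArg (fun t => s * t) h4
      simpa using this
    have h6 : x * b * x⁻¹ = b := by
      rw [h5] at h2
      exact mul_left_cancel h2
    have hs1 : s = 1 := by
      have : s ∈ S ⊓ Subgroup.centralizer ({x} : Set G) := ⟨hs, hcomm s h5⟩
      rwa [hS, Subgroup.mem_bot] at this
    have hb1 : b = 1 := by
      have : b ∈ B ⊓ Subgroup.centralizer ({x} : Set G) := ⟨hb, hcomm b h6⟩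
      rwa [hB, Subgroup.mem_bot] at this
    apply Subtype.ext
    rw [hsb, hs1, hb1, mul_one]
    rfl
  have hφr : φ ^ r = 1 := by
    rw [hφ, ← map_pow]
    have : (⟨x, hxW⟩ : Subgroup.normalizer (W : Set G)) ^ r = 1 := by
      apply Subtype.ext
      simpa using hxr
    rw [this, map_one]
  have hφ1 : φ ≠ 1 := by
    intro h1
    apply hB1
    rw [eq_bot_iff]
    intro b hb
    have hbW : b ∈ W := hW ▸ (le_sup_right : B ≤ S ⊔ B) hb
    have := hfpf ⟨b, hbW⟩ (by
      have : φ ⟨b, hbW⟩ = ⟨b, hbW⟩ := by rw [h1]; rfl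
      exact this)
    rw [Subgroup.mem_bot]
    exact congrArg (fun t : W => (t : G)) this
  have : Fact r.Prime := ⟨hr⟩
  have hord : orderOf φ = r := orderOf_eq_prime hφr hφ1
  have hnil : Group.IsNilpotent W := Cfsg.Agent.S0033.result φ hfpf r hr hord
  intro b hb
  rw [Subgroup.mem_centralizer_iff]
  intro s hs
  have hsW : s ∈ W := hW ▸ (le_sup_left : S ≤ S ⊔ B) hs
  have hbW : b ∈ W := hW ▸ (le_sup_right : B ≤ S ⊔ B) hb
  have hco : (orderOf (⟨s, hsW⟩ : W)).Coprime (orderOf (⟨b, hbW⟩ : W)) := by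
    rw [Subgroup.orderOf_mk, Subgroup.orderOf_mk]
    exact Nat.Coprime.coprime_dvd_left (Subgroup.orderOf_dvd_natCard S hs)
      (Nat.Coprime.coprime_dvd_right (Subgroup.orderOf_dvd_natCard B hb) hcop)
  have := Cfsg.Agent.Lib.Helper9.commute_of_coprime_orderOf_of_isNilpotent W ⟨s, hsW⟩ ⟨b, hbW⟩ hco
  exact congrArg (fun t : W => (t : G)) this

/-- A subgroup between a subgroup of order `p` and one of order `p ^ 2` is one of the two. -/
theorem eq_of_le_of_le_card_sq [Finite G] {p : ℕ} [hp : Fact p.Prime] {P K A : Subgroup G}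
    (hPK : P ≤ K) (hKA : K ≤ A) (hP : Nat.card P = p) (hA : Nat.card A = p ^ 2) (hne : K ≠ A) :
    K = P := by
  have hpp := hp.out
  have h1 : Nat.card K ∣ p ^ 2 := hA ▸ Subgroup.card_dvd_of_le hKA
  have h2 : p ∣ Nat.card K := hP ▸ Subgroup.card_dvd_of_le hPK
  obtain ⟨j, hj, hjc⟩ := (Nat.dvd_prime_pow hpp).mp h1
  have hj1 : j ≠ 2 := by
    intro h
    apply hne
    refine Subgroup.eq_of_le_of_card_ge hKA ?_
    rw [hA, hjc, h]
  have hj0 : j ≠ 0 := by
    intro h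
    rw [hjc, h, pow_zero] at h2
    exact hpp.one_lt.ne' (Nat.dvd_one.mp h2)
  have hj' : j = 1 := by omega
  symm
  refine Subgroup.eq_of_le_of_card_ge hPK ?_
  rw [hP, hjc, hj', pow_one]

/-- A nontrivial proper subgroup of a group of order `p ^ 2` has order `p`. -/
theorem card_eq_of_ne_bot_of_ne [Finite G] {p : ℕ} [hp : Fact p.Prime] {K A : Subgroup G}
    (hKA : K ≤ A) (hA : Nat.card A = p ^ 2) (hK1 : K ≠ ⊥) (hne : K ≠ A) : Nat.card K = p := by
  have hpp := hp.out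
  have h1 : Nat.card K ∣ p ^ 2 := hA ▸ Subgroup.card_dvd_of_le hKA
  obtain ⟨j, hj, hjc⟩ := (Nat.dvd_prime_pow hpp).mp h1
  have hj1 : j ≠ 2 := by
    intro h
    apply hne
    refine Subgroup.eq_of_le_of_card_ge hKA ?_
    rw [hA, hjc, h]
  have hj0 : j ≠ 0 := by
    intro h
    rw [h, pow_zero] at hjc
    exact hK1 (Subgroup.card_eq_one.mp hjc)
  have hj' : j = 1 := by omega
  rw [hjc, hj', pow_one]

/-- Two subgroups of prime order sharing a nontrivial element are equal. -/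
theorem eq_of_card_prime_of_mem [Finite G] {p : ℕ} [hp : Fact p.Prime] {L K : Subgroup G}
    (hL : Nat.card L = p) (hK : Nat.card K = p) {a : G} (haL : a ∈ L) (haK : a ∈ K)
    (ha : a ≠ 1) : L = K := by
  have hz : ∀ H : Subgroup G, Nat.card H = p → a ∈ H → Subgroup.zpowers a = H := by
    intro H hH haH
    refine Subgroup.eq_of_le_of_card_ge (Subgroup.zpowers_le.mpr haH) ?_
    rw [hH, Nat.card_zpowers]
    have h1 : orderOf a ∣ p := hH ▸ Subgroup.orderOf_dvd_natCard H haH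
    rcases (Nat.dvd_prime hp.out).mp h1 with h | h
    · exact absurd (orderOf_eq_one_iff.mp h) ha
    · exact h.ge
  rw [← hz L hL haL, hz K hK haK]

/-- **The two invariant lines.** `A` elementary abelian of order `p ^ 2`, `x` of order prime to `p`
normalizing `A`, centralizing the subgroup `P ≤ A` of order `p` but not `A`.  Then `C_A(x) = P`,
and there is a second `x`-invariant subgroup `P2 = [A, x]` of order `p`, on which `x` has no
nontrivial fixed point; `P` and `P2` are the only `x`-invariant subgroups of order `p` of `A`. -/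
theorem exists_second_line [Finite G] {p r : ℕ} [hp : Fact p.Prime] (hrp : r.Coprime p)
    {A P : Subgroup G} {x : G}
    (hAc : IsMulCommutative A) (hAexp : ∀ a ∈ A, a ^ p = 1) (hAcard : Nat.card A = p ^ 2)
    (hPA : P ≤ A) (hP : Nat.card P = p) (hxr : x ^ r = 1)
    (hxA : x ∈ Subgroup.normalizer (A : Set G)) (hxP : x ∈ Subgroup.centralizer (P : Set G))
    (hxnA : x ∉ Subgroup.centralizer (A : Set G)) :
    ∃ P2 : Subgroup G, P2 ≤ A ∧ Nat.card P2 = p ∧ x ∈ Subgroup.normalizer (P2 : Set G) ∧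
      P2 ⊓ Subgroup.centralizer ({x} : Set G) = ⊥ ∧
      A ⊓ Subgroup.centralizer ({x} : Set G) = P ∧
      ∀ ℓ : Subgroup G, ℓ ≤ A → Nat.card ℓ = p → x ∈ Subgroup.normalizer (ℓ : Set G) →
        ℓ = P ∨ ℓ = P2 := by
  classical
  have hpp := hp.out
  have hcomm : ∀ a ∈ A, ∀ b ∈ A, a * b = b * a := by
    intro a ha b hb
    have := (isMulCommutative_iff.mp hAc) ⟨a, ha⟩ ⟨b, hb⟩
    exact congrArg Subtype.val this
  have hconj : ∀ a ∈ A, x * a * x⁻¹ ∈ A := fun a ha =>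
    (Subgroup.mem_normalizer_iff.mp hxA a).mp ha
  have hconj' : ∀ a ∈ A, x⁻¹ * a * x ∈ A := fun a ha =>
    (Subgroup.mem_normalizer_iff''.mp hxA a).mp ha
  have hδA : ∀ a ∈ A, x * a * x⁻¹ * a⁻¹ ∈ A := fun a ha =>
    A.mul_mem (hconj a ha) (A.inv_mem ha)
  let P2 : Subgroup G :=
    { carrier := {c | ∃ a ∈ A, c = x * a * x⁻¹ * a⁻¹}
      one_mem' := ⟨1, A.one_mem, by group⟩
      mul_mem' := by
        rintro _ _ ⟨a, ha, rfl⟩ ⟨b, hb, rfl⟩
        refine ⟨a * b, A.mul_mem ha hb, ?_⟩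
        have h1 := hcomm a⁻¹ (A.inv_mem ha) _ (hδA b hb)
        calc x * a * x⁻¹ * a⁻¹ * (x * b * x⁻¹ * b⁻¹)
            = x * a * x⁻¹ * (a⁻¹ * (x * b * x⁻¹ * b⁻¹)) := by group
          _ = x * a * x⁻¹ * ((x * b * x⁻¹ * b⁻¹) * a⁻¹) := by rw [h1]
          _ = x * (a * b) * x⁻¹ * (a * b)⁻¹ := by group
      inv_mem' := by
        rintro _ ⟨a, ha, rfl⟩
        refine ⟨a⁻¹, A.inv_mem ha, ?_⟩
        have h1 := hcomm a ha _ (hconj a⁻¹ (A.inv_mem ha))
        calc (x * a * x⁻¹ * a⁻¹)⁻¹ = a * (x * a⁻¹ * x⁻¹) := by group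
          _ = (x * a⁻¹ * x⁻¹) * a := h1
          _ = x * a⁻¹ * x⁻¹ * a⁻¹⁻¹ := by group }
  have hP2mem : ∀ c, c ∈ P2 ↔ ∃ a ∈ A, c = x * a * x⁻¹ * a⁻¹ := fun c => Iff.rfl
  have hP2A : P2 ≤ A := by
    rintro _ ⟨a, ha, rfl⟩
    exact hδA a ha
  have hxP2 : x ∈ Subgroup.normalizer (P2 : Set G) := by
    rw [Subgroup.mem_normalizer_iff]
    intro c
    constructor
    · rintro ⟨a, ha, rfl⟩
      exact ⟨x * a * x⁻¹, hconj a ha, by group⟩
    · rintro ⟨a, ha, hca⟩
      refine ⟨x⁻¹ * a * x, hconj' a ha, ?_⟩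
      have : c = x⁻¹ * (x * c * x⁻¹) * x := by group
      rw [this, hca]; group
  have hfpf : P2 ⊓ Subgroup.centralizer ({x} : Set G) = ⊥ := by
    rw [eq_bot_iff]
    rintro c ⟨⟨a, ha, hca⟩, hcx⟩
    rw [Subgroup.mem_bot]
    have hxc : x * c = c * x := (Subgroup.mem_centralizer_iff.mp hcx) x (Set.mem_singleton x)
    have hxa : x * a * x⁻¹ = c * a := by rw [hca]; group
    have hxck : ∀ k : ℕ, x * c ^ k * x⁻¹ = c ^ k := by
      intro k
      have hc : Commute x (c ^ k) := (show Commute x c from hxc).pow_right k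
      rw [hc.eq]; group
    have key : ∀ k : ℕ, x ^ k * a * (x ^ k)⁻¹ = c ^ k * a := by
      intro k
      induction k with
      | zero => simp
      | succ k ih =>
        calc x ^ (k + 1) * a * (x ^ (k + 1))⁻¹ = x * (x ^ k * a * (x ^ k)⁻¹) * x⁻¹ := by
              rw [pow_succ']; group
          _ = x * (c ^ k * a) * x⁻¹ := by rw [ih]
          _ = (x * c ^ k * x⁻¹) * (x * a * x⁻¹) := by group
          _ = c ^ k * (c * a) := by rw [hxck k, hxa]
          _ = c ^ (k + 1) * a := by rw [pow_succ]; group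
    have h1 := key r
    rw [hxr] at h1
    have hcr : c ^ r = 1 := by
      have : c ^ r * a = 1 * a := by rw [← h1]; group
      exact mul_right_cancel this
    have hcp : c ^ p = 1 := hAexp c (hP2A ⟨a, ha, hca⟩)
    have := pow_gcd_eq_one.mpr ⟨hcr, hcp⟩
    rwa [Nat.Coprime.gcd_eq_one hrp, pow_one] at this
  have hPx : P ≤ Subgroup.centralizer ({x} : Set G) := by
    intro a ha
    rw [Subgroup.mem_centralizer_iff]
    intro y hy
    rw [Set.mem_singleton_iff] at hy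
    subst hy
    exact ((Subgroup.mem_centralizer_iff.mp hxP) a ha).symm
  have hCAx : A ⊓ Subgroup.centralizer ({x} : Set G) = P := by
    refine eq_of_le_of_le_card_sq (le_inf hPA hPx) inf_le_left hP hAcard ?_
    intro h
    apply hxnA
    rw [Subgroup.mem_centralizer_iff]
    intro a ha
    have ha2 : a ∈ A ⊓ Subgroup.centralizer ({x} : Set G) := by rw [h]; exact ha
    have ha' : a ∈ Subgroup.centralizer ({x} : Set G) := ha2.2
    exact ((Subgroup.mem_centralizer_iff.mp ha') x (Set.mem_singleton x)).symm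
  have hP2P : P2 ⊓ P = ⊥ := by
    rw [eq_bot_iff, ← hfpf]
    exact inf_le_inf_left _ hPx
  have hP1 : P ≠ ⊥ := by
    intro h
    rw [h, Subgroup.card_bot] at hP
    exact hpp.one_lt.ne hP
  have hP2ne : P2 ≠ ⊥ := by
    intro h
    apply hxnA
    rw [Subgroup.mem_centralizer_iff]
    intro a ha
    have h1 : x * a * x⁻¹ * a⁻¹ ∈ P2 := ⟨a, ha, rfl⟩
    rw [h, Subgroup.mem_bot] at h1
    have : x * a * x⁻¹ * a⁻¹ * (a * x) = 1 * (a * x) := by rw [h1]
    have h2 : x * a = a * x := by simpa [mul_assoc] using this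
    exact h2.symm
  have hP2card : Nat.card P2 = p := by
    refine card_eq_of_ne_bot_of_ne hP2A hAcard hP2ne ?_
    intro h
    apply hP1
    rw [eq_bot_iff, ← hP2P, h]
    exact le_inf hPA le_rfl
  refine ⟨P2, hP2A, hP2card, hxP2, hfpf, hCAx, ?_⟩
  intro ℓ hℓA hℓ hxℓ
  by_cases hc : ℓ ≤ Subgroup.centralizer ({x} : Set G)
  · left
    have h1 : ℓ ≤ P := hCAx ▸ le_inf hℓA hc
    exact Subgroup.eq_of_le_of_card_ge h1 (by rw [hP, hℓ])
  · right
    obtain ⟨a, haℓ, hax⟩ := SetLike.not_le_iff_exists.mp hc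
    have hδ1 : x * a * x⁻¹ * a⁻¹ ≠ 1 := by
      intro h1
      apply hax
      rw [Subgroup.mem_centralizer_iff]
      intro y hy
      rw [Set.mem_singleton_iff] at hy
      subst hy
      have : y * a * y⁻¹ * a⁻¹ * (a * y) = 1 * (a * y) := by rw [h1]
      simpa [mul_assoc] using this
    have hδℓ : x * a * x⁻¹ * a⁻¹ ∈ ℓ :=
      ℓ.mul_mem ((Subgroup.mem_normalizer_iff.mp hxℓ a).mp haℓ) (ℓ.inv_mem haℓ)
    exact eq_of_card_prime_of_mem hℓ hP2card hδℓ ⟨a, hℓA haℓ, rfl⟩ hδ1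

/-- A subgroup `X` of a cyclic subgroup `C` is normalized by every subgroup normalizing `C`. -/
theorem le_normalizer_of_le_isCyclic [Finite G] {X C E : Subgroup G} (hC : IsCyclic C)
    (hXC : X ≤ C) (hEC : E ≤ Subgroup.normalizer (C : Set G)) :
    E ≤ Subgroup.normalizer (X : Set G) := by
  apply Cfsg.Agent.Lib.Helper35.BG.le_normalizer_of_forall_conj_mem
  intro e he a ha
  have hconj : X.map (MulAut.conj e).toMonoidHom ≤ C := by
    rintro _ ⟨y, hy, rfl⟩
    exact (Subgroup.mem_normalizer_iff.mp (hEC he) y).mp (hXC hy)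
  have hcard : Nat.card ((X.map (MulAut.conj e).toMonoidHom).subgroupOf C)
      = Nat.card (X.subgroupOf C) := by
    rw [Nat.card_congr (Subgroup.subgroupOfEquivOfLe hconj).toEquiv,
      Nat.card_congr (Subgroup.subgroupOfEquivOfLe hXC).toEquiv]
    exact Subgroup.card_map_of_injective (MulAut.conj e).injective
  haveI := hC
  have heq := Cfsg.Agent.Lib.Helper69.eq_of_card_eq_of_isCyclic _ _ hcard
  have h1 : e * a * e⁻¹ ∈ X.map (MulAut.conj e).toMonoidHom := ⟨a, ha, rfl⟩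
  have h2 : (⟨e * a * e⁻¹, hconj h1⟩ : C) ∈ (X.map (MulAut.conj e).toMonoidHom).subgroupOf C :=
    Subgroup.mem_subgroupOf.mpr h1
  rw [heq] at h2
  exact Subgroup.mem_subgroupOf.mp h2

end Pure

/-- **(GL).** `A` elementary abelian of order `p ^ 2`, `x ∈ N(A)` with `C_A(x) = P` such that the
only `x`-invariant subgroups of order `p` of `A` are `P` and `P2`.  If `N(P)` and `N(P2)` lie in
`Ms` then so does `N(A)`. -/
theorem normalizer_le_of_two_lines {G : Type u} [Group G] [Finite G]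
    (hG : IsMinSimpleOddOrder G)
    {p : ℕ} [hp : Fact p.Prime] {A P P2 Ms : Subgroup G} {x : G}
    (hAc : IsMulCommutative A) (hAexp : ∀ a ∈ A, a ^ p = 1) (hAcard : Nat.card A = p ^ 2)
    (hxA : x ∈ Subgroup.normalizer (A : Set G))
    (hCAx : A ⊓ Subgroup.centralizer ({x} : Set G) = P)
    (hlines : ∀ ℓ : Subgroup G, ℓ ≤ A → Nat.card ℓ = p →
      x ∈ Subgroup.normalizer (ℓ : Set G) → ℓ = P ∨ ℓ = P2)
    (hNP : Subgroup.normalizer (P : Set G) ≤ Ms) (hNP2 : Subgroup.normalizer (P2 : Set G) ≤ Ms) :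
    Subgroup.normalizer (A : Set G) ≤ Ms := by
  classical
  have hpp := hp.out
  have hsimple : IsSimpleGroup G := hG.2.1
  have hA1 : A ≠ ⊥ := by
    intro h
    rw [h, Subgroup.card_bot] at hAcard
    have : 1 < p ^ 2 := Nat.one_lt_pow two_ne_zero hpp.one_lt
    omega
  have hAtop : A ≠ ⊤ := by
    intro h
    apply hG.2.2.1
    refine ⟨⟨fun a b => ?_⟩⟩
    have ha : a ∈ A := h ▸ Subgroup.mem_top a
    have hb : b ∈ A := h ▸ Subgroup.mem_top b
    have := (isMulCommutative_iff.mp hAc) ⟨a, ha⟩ ⟨b, hb⟩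
    exact congrArg Subtype.val this
  have hNtop : Subgroup.normalizer (A : Set G) ≠ ⊤ :=
    Cfsg.Agent.Lib.Helper35.BG.normalizer_ne_top hG hA1 hAtop
  have hsolv : Group.IsSolvable (Subgroup.normalizer (A : Set G)) :=
    Cfsg.Agent.Lib.Helper35.BG.isSolvable_of_ne_top hG hNtop
  have hodd : Odd (Nat.card (Subgroup.normalizer (A : Set G))) :=
    Cfsg.Agent.Lib.Helper35.BG.odd_card_subgroup hG _
  have hp2 : p ≠ 2 := by
    intro h
    have h1 : p ∣ Nat.card A := by rw [hAcard]; exact dvd_pow_self p two_ne_zero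
    have h2 : p ∣ Nat.card G := h1.trans (Subgroup.card_subgroup_dvd_card A)
    have h3 : Odd (Nat.card G) := hG.1
    rw [h] at h2
    exact (Nat.not_even_iff_odd.mpr h3) (even_iff_two_dvd.mpr h2)
  have hAp : IsPGroup p A := by
    intro ⟨a, ha⟩
    exact ⟨1, Subtype.ext (by rw [pow_one]; exact hAexp a ha)⟩
  have hrk : Cfsg.PRankLE p 2 A := by
    intro B _ _
    calc Nat.card B ≤ Nat.card A := Subgroup.card_le_card_group B
      _ = p ^ 2 := hAcard
  obtain ⟨φ, hφ⟩ := Cfsg.Agent.Lib.Helper1.exists_linearization hp2 A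
    (Subgroup.normalizer (A : Set G)) hAp hrk le_rfl
  -- every element of the derived subgroup of `N(A)` has a `p`-power centralizing `A`
  have hder : ∀ c : Subgroup.normalizer (A : Set G), c ∈ commutator (Subgroup.normalizer (A : Set G)) →
      ∃ k : ℕ, (c : G) ^ p ^ k ∈ Subgroup.centralizer (A : Set G) := by
    intro c hc
    obtain ⟨n, hn⟩ := Cfsg.Agent.Lib.Helper1.map_commutator_isPGroup hp2 hodd φ c hc
    obtain ⟨m, hm⟩ := Cfsg.Agent.Lib.Helper1.pow_mem_centralizer_of_ker A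
      (Subgroup.normalizer (A : Set G)) φ hφ (c ^ p ^ n) hn
    refine ⟨n + m, ?_⟩
    rw [pow_add, pow_mul]
    simpa using hm
  -- the action of the derived subgroup on `A`
  obtain ⟨ψ, hψ⟩ : ∃ ψ : commutator (Subgroup.normalizer (A : Set G)) →* MulAut A,
      ψ = A.normalizerMonoidHom.comp (commutator (Subgroup.normalizer (A : Set G))).subtype :=
    ⟨_, rfl⟩
  have hψv : ∀ (c : commutator (Subgroup.normalizer (A : Set G))) (a : A),
      ((ψ c a : A) : G) = ((c : Subgroup.normalizer (A : Set G)) : G) * a *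
        ((c : Subgroup.normalizer (A : Set G)) : G)⁻¹ := by
    intro c a
    rw [hψ]
    rfl
  have hQ : IsPGroup p ψ.range := by
    rintro ⟨_, c, rfl⟩
    obtain ⟨k, hk⟩ := hder c c.2
    refine ⟨k, Subtype.ext ?_⟩
    rw [Subgroup.coe_pow, Subgroup.coe_one, ← map_pow]
    ext a
    rw [hψv]
    have h1 := (Subgroup.mem_centralizer_iff.mp hk) a a.2
    have h2 : (((c ^ p ^ k : commutator (Subgroup.normalizer (A : Set G))) :
        Subgroup.normalizer (A : Set G)) : G) = ((c : Subgroup.normalizer (A : Set G)) : G) ^ p ^ k := by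
      simp
    rw [h2]
    change _ = (a : G)
    rw [← h1]; group
  have hdvd : p ∣ Nat.card A := by rw [hAcard]; exact dvd_pow_self p two_ne_zero
  have h1fix : (1 : A) ∈ MulAction.fixedPoints ψ.range A := by
    intro q
    change (q : MulAut A) (1 : A) = 1
    exact map_one _
  obtain ⟨b, hbfix, hb1⟩ :=
    hQ.exists_fixed_point_of_prime_dvd_card_of_fixed_point A hdvd h1fix
  have hbc : ∀ c : commutator (Subgroup.normalizer (A : Set G)),
      ((c : Subgroup.normalizer (A : Set G)) : G) * b * ((c : Subgroup.normalizer (A : Set G)) : G)⁻¹ = b := by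
    intro c
    have h1 := hbfix ⟨ψ c, c, rfl⟩
    have h2 : ψ c b = b := h1
    rw [← hψv, h2]
  -- the derived subgroup as a subgroup of `G`
  obtain ⟨N', hN'⟩ : ∃ N' : Subgroup G,
      N' = (commutator (Subgroup.normalizer (A : Set G))).map (Subgroup.normalizer (A : Set G)).subtype :=
    ⟨_, rfl⟩
  have hNN' : Subgroup.normalizer (A : Set G) ≤ Subgroup.normalizer (N' : Set G) := by
    apply Cfsg.Agent.Lib.Helper35.BG.le_normalizer_of_forall_conj_mem
    intro n hn c hc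
    rw [hN'] at hc ⊢
    obtain ⟨c', hc', rfl⟩ := hc
    refine ⟨⟨n, hn⟩ * c' * ⟨n, hn⟩⁻¹, ?_, rfl⟩
    exact (inferInstance : (commutator (Subgroup.normalizer (A : Set G))).Normal).conj_mem c' hc' ⟨n, hn⟩
  obtain ⟨ℓ, hℓ⟩ : ∃ ℓ : Subgroup G, ℓ = A ⊓ Subgroup.centralizer (N' : Set G) := ⟨_, rfl⟩
  have hℓA : ℓ ≤ A := hℓ ▸ inf_le_left
  have hbℓ : (b : G) ∈ ℓ := by
    rw [hℓ]
    refine Subgroup.mem_inf.mpr ⟨b.2, ?_⟩
    rw [Subgroup.mem_centralizer_iff]
    intro h hh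
    rw [hN'] at hh
    obtain ⟨c, hc, rfl⟩ := hh
    have h1 := hbc ⟨c, hc⟩
    calc (c : G) * b = (c : G) * b * (c : G)⁻¹ * c := by group
      _ = b * c := by rw [h1]
  have hℓ1 : ℓ ≠ ⊥ := by
    intro h
    rw [h, Subgroup.mem_bot] at hbℓ
    exact hb1 (Subtype.ext hbℓ.symm)
  have hNℓ : Subgroup.normalizer (A : Set G) ≤ Subgroup.normalizer (ℓ : Set G) := by
    rw [hℓ]
    exact Cfsg.Agent.Lib.Helper35.BG.le_normalizer_inf_of_le le_rfl
      (hNN'.trans (Cfsg.Agent.Lib.Helper35.BG.normalizer_le_normalizer_centralizer N'))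
  by_cases hℓA' : ℓ = A
  · -- the derived subgroup centralizes `A`: `N(A)` normalizes `C_A(x) = P`
    refine le_trans ?_ hNP
    apply Cfsg.Agent.Lib.Helper35.BG.le_normalizer_of_forall_conj_mem
    intro n hn a ha
    have haA : a ∈ A := (hCAx ▸ ha : a ∈ A ⊓ Subgroup.centralizer ({x} : Set G)).1
    have hax : x * a = a * x :=
      (Subgroup.mem_centralizer_iff.mp (hCAx ▸ ha : a ∈ A ⊓ Subgroup.centralizer ({x} : Set G)).2)
        x (Set.mem_singleton x)
    have hnaA : n * a * n⁻¹ ∈ A := (Subgroup.mem_normalizer_iff.mp hn a).mp haA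
    have hcN' : n⁻¹ * x * n * x⁻¹ ∈ N' := by
      rw [hN']
      refine ⟨⁅(⟨n, hn⟩ : Subgroup.normalizer (A : Set G))⁻¹, ⟨x, hxA⟩⁆, ?_, ?_⟩
      · rw [commutator_def]
        exact Subgroup.commutator_mem_commutator (Subgroup.mem_top _) (Subgroup.mem_top _)
      · rw [commutatorElement_def]
        simp
    have hca : (n⁻¹ * x * n * x⁻¹) * a = a * (n⁻¹ * x * n * x⁻¹) := by
      have h1 : a ∈ Subgroup.centralizer (N' : Set G) := by
        have : a ∈ ℓ := hℓA' ▸ haA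
        rw [hℓ] at this
        exact this.2
      exact (Subgroup.mem_centralizer_iff.mp h1) _ hcN'
    rw [← hCAx]
    refine Subgroup.mem_inf.mpr ⟨hnaA, ?_⟩
    rw [Subgroup.mem_centralizer_iff]
    intro y hy
    rw [Set.mem_singleton_iff] at hy
    subst hy
    calc y * (n * a * n⁻¹) = n * ((n⁻¹ * y * n * y⁻¹) * (y * a)) * n⁻¹ := by group
      _ = n * ((n⁻¹ * y * n * y⁻¹) * (a * y)) * n⁻¹ := by rw [hax]
      _ = n * (((n⁻¹ * y * n * y⁻¹) * a) * y) * n⁻¹ := by group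
      _ = n * ((a * (n⁻¹ * y * n * y⁻¹)) * y) * n⁻¹ := by rw [hca]
      _ = n * a * n⁻¹ * y := by group
  · have hℓcard : Nat.card ℓ = p := card_eq_of_ne_bot_of_ne hℓA hAcard hℓ1 hℓA'
    rcases hlines ℓ hℓA hℓcard (hNℓ hxA) with h | h
    · exact (h ▸ hNℓ).trans hNP
    · exact (h ▸ hNℓ).trans hNP2

/-- **Case II of the σ-partition endgame.** -/
theorem sigmaDisj_caseII {G : Type u} [Group G] [Finite G] (hG : IsMinSimpleOddOrder G)
    (h1350 : type_of% (@Cfsg.CfsgFrozen.S1350 G _ _ hG))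
    (h1405 : type_of% (@Cfsg.CfsgFrozen.S1405 G _ _ hG))
    (h1415 : type_of% (@Cfsg.CfsgFrozen.S1415 G _ _ hG))
    (h1417 : type_of% (@Cfsg.CfsgFrozen.S1417 G _ _ hG))
    (h1418 : type_of% (@Cfsg.CfsgFrozen.S1418 G _ _ hG))
    (h1428 : type_of% (@Cfsg.CfsgFrozen.S1428 G _ _ hG))
    {M Ms : Subgroup G} (hM : IsCoatom M) (hMs : IsCoatom Ms) {p r : ℕ} [hp : Fact p.Prime]
    [hr : Fact r.Prime] {P X : Subgroup G} (hP : Nat.card P = p) (hX : Nat.card X = r)
    (hNP : Subgroup.normalizer (P : Set G) ≤ Ms) (hp2 : p ∈ tau2 Ms)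
    (hXP : X ≤ Subgroup.centralizer (P : Set G)) (hNX : Subgroup.normalizer (X : Set G) ≤ M)
    (hpM : ∀ A : Subgroup G, A ≤ M → IsElementaryAbelian p A → Nat.card A ≠ p ^ 2)
    (hσ : ∀ s, s ∈ sigma M → s ∉ sigma Ms) (hrσ : r ∉ sigma Ms)
    (hCMP : ∀ x ∈ M, x ∈ Subgroup.centralizer (P : Set G) → ∀ s : ℕ, s.Prime → s ∣ orderOf x →
      s ∈ sigma M ∨ s = p) : False := by
  classical
  have hpp := hp.out
  have hrr := hr.out
  have hPMs : P ≤ Ms := Subgroup.le_normalizer.trans hNP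
  have hXMs : X ≤ Ms := hXP.trans ((Subgroup.centralizer_le_normalizer _).trans hNP)
  have hCX : Subgroup.centralizer (X : Set G) ≤ M :=
    (Subgroup.centralizer_le_normalizer _).trans hNX
  have hpσ : p ∉ sigma Ms := hp2.2.1
  have hHall := (h1350 Ms hMs).1
  -- a complement `E` of `M*_σ` containing `X` and `P`
  have hXnP : X ≤ Subgroup.normalizer (P : Set G) :=
    hXP.trans (Subgroup.centralizer_le_normalizer _)
  have hY : ∀ q : ℕ, q.Prime → q ∣ Nat.card (X ⊔ P : Subgroup G) → q ∉ sigma Ms := by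
    intro q hq hdvd
    have h1 := hdvd.trans (Cfsg.Agent.Lib.Helper27.BG.card_sup_dvd_mul hXnP)
    rw [hX, hP] at h1
    rcases (Nat.Prime.dvd_mul hq).mp h1 with h | h
    · rw [(Nat.prime_dvd_prime_iff_eq hq hrr).mp h]; exact hrσ
    · rw [(Nat.prime_dvd_prime_iff_eq hq hpp).mp h]; exact hpσ
  obtain ⟨E, hE, hYE⟩ := Cfsg.Agent.Lib.Helper76.BG.exists_compl_ge hG Ms hMs hHall (X ⊔ P)
    (sup_le hXMs hPMs) hY
  have hXE : X ≤ E := le_sup_left.trans hYE
  have hPE : P ≤ E := le_sup_right.trans hYE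
  have hEMs : E ≤ Ms := hE.1
  have hEsolv : Group.IsSolvable E :=
    Cfsg.Agent.Lib.Helper35.BG.isSolvable_of_ne_top hG (lt_of_le_of_lt hEMs hMs.lt_top).ne
  obtain ⟨A, hAE, hAea, hAcard⟩ := Cfsg.Agent.Lib.Helper67.BG.exists_ea_sq_le_compl hE hp2
  have hAMs : A ≤ Ms := hAE.trans hEMs
  obtain ⟨⟨hEA, hallp⟩, ⟨-, -, hNA⟩, -⟩ := h1418 Ms hMs E hE p hp2 A ⟨hAE, hAea, hAcard⟩
  have hPA : P ≤ A := hallp P hPE hP
  obtain ⟨-, -, -, hCσA, -, -⟩ := h1417 Ms hMs p hp2 A ⟨hAMs, hAea, hAcard⟩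
  have hAM : ¬ A ≤ M := fun h => hpM A h hAea hAcard
  have hAcomm : A ≤ Subgroup.centralizer (A : Set G) :=
    Subgroup.le_centralizer_iff_isMulCommutative.mpr hAea.1
  -- `X` does not centralize `A`
  have hXA : ¬ X ≤ Subgroup.centralizer (A : Set G) := by
    intro h
    exact hAM ((Subgroup.le_centralizer_iff.mp h).trans hCX)
  have hrp : r ≠ p := by
    intro h
    apply hXA
    exact (hallp X hXE (h ▸ hX)).trans hAcomm
  have hcop : r.Coprime p := (Nat.coprime_primes hrr hpp).mpr hrp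
  have hrMs : r ∣ Nat.card Ms := hX ▸ Subgroup.card_dvd_of_le hXMs
  -- `r ∈ τ₁(M*)`
  have hrτ1 : r ∈ tau1 Ms := by
    by_cases h1 : PRankLE r 1 Ms
    · by_cases hd : r ∣ Nat.card ↥⁅Ms, Ms⁆
      · exfalso
        have hτ3 : r ∈ tau3 Ms := ⟨hrr, hrσ, hd, h1⟩
        obtain ⟨E3, hE3, hXE3⟩ := Cfsg.Agent.Lib.Helper67.BG.exists_piHallOf_ge (tau3 Ms) E hEsolv
          X hXE (by
            intro q hq hdvd
            rw [hX] at hdvd
            rw [(Nat.prime_dvd_prime_iff_eq hq hrr).mp hdvd]; exact hτ3)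
        obtain ⟨hcyc, -, hEN⟩ := (h1415 Ms hMs E hE).2.2 E3 hE3
        have hEX : E ≤ Subgroup.normalizer (X : Set G) :=
          le_normalizer_of_le_isCyclic hcyc hXE3 hEN
        exact hAM ((hAE.trans hEX).trans hNX)
      · exact ⟨hrr, hrσ, hrMs, hd, h1⟩
    · exfalso
      have h2 : PRankLE r 2 Ms := by
        by_contra h2
        exact hrσ (Cfsg.Agent.Lib.Helper46.BG.mem_sigma_of_mem_alpha hG h1405 hMs ⟨hrr, h2⟩)
      have hτ2 : r ∈ tau2 Ms := ⟨hrr, hrσ, h2, h1⟩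
      obtain ⟨B, hBE, hBea, hBcard⟩ := Cfsg.Agent.Lib.Helper67.BG.exists_ea_sq_le_compl hE hτ2
      obtain ⟨⟨hEB, hallr⟩, -, -⟩ := h1418 Ms hMs E hE r hτ2 B ⟨hBE, hBea, hBcard⟩
      have hXB : X ≤ B := hallr X hXE hX
      have hAB : A ⊓ B = ⊥ := by
        refine (Subgroup.disjoint_of_coprime_natCard ?_).eq_bot
        rw [hAcard, hBcard]
        exact Nat.Coprime.pow 2 2 hcop.symm
      have hAcB : A ≤ Subgroup.centralizer (B : Set G) := by
        intro a ha
        rw [Subgroup.mem_centralizer_iff]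
        intro b hb
        have h1 : a * b * a⁻¹ ∈ B := (Subgroup.mem_normalizer_iff.mp (hEB (hAE ha)) b).mp hb
        have h2 : b * a⁻¹ * b⁻¹ ∈ A :=
          (Subgroup.mem_normalizer_iff.mp (hEA (hBE hb)) a⁻¹).mp (A.inv_mem ha)
        have h3 : a * b * a⁻¹ * b⁻¹ ∈ A ⊓ B := by
          refine Subgroup.mem_inf.mpr ⟨?_, B.mul_mem h1 (B.inv_mem hb)⟩
          have := A.mul_mem ha h2
          simpa [mul_assoc] using this
        rw [hAB, Subgroup.mem_bot] at h3
        have h4 : a * b * a⁻¹ * b⁻¹ * (b * a) = 1 * (b * a) := by rw [h3]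
        have h5 : a * b = b * a := by simpa [mul_assoc] using h4
        exact h5.symm
      exact hAM ((hAcB.trans (Subgroup.centralizer_le (show (X : Set G) ⊆ B from hXB))).trans hCX)
  -- a generator `x` of `X`
  obtain ⟨x, hxX, hxord, hXz⟩ := Cfsg.Agent.Lib.Helper27.BG.exists_generator_of_card_prime hrr hX
  have hxr : x ^ r = 1 := by rw [← hxord]; exact pow_orderOf_eq_one x
  have hxA : x ∈ Subgroup.normalizer (A : Set G) := hEA (hXE hxX)
  have hxP : x ∈ Subgroup.centralizer (P : Set G) := hXP hxX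
  have hxnA : x ∉ Subgroup.centralizer (A : Set G) := by
    intro h
    apply hXA
    rw [hXz, Subgroup.zpowers_le]
    exact h
  obtain ⟨P2, hP2A, hP2card, hxP2, hP2fpf, hCAx, hlines⟩ :=
    exists_second_line hcop hAea.1 hAea.2 hAcard hPA hP hxr hxA hxP hxnA
  -- `C_{M*_σ}(x) = 1`
  have hPcX : P ≤ Subgroup.centralizer (X : Set G) := Subgroup.le_centralizer_iff.mp hXP
  have h28 := h1428 Ms hMs E hE r hrτ1 X hXE hX P (le_inf hPE hPcX) (hP ▸ hpp)
  have hSx : sigmaCore Ms ⊓ Subgroup.centralizer ({x} : Set G) = ⊥ := by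
    rw [eq_bot_iff]
    intro y hy
    obtain ⟨hyS, hyx⟩ := Subgroup.mem_inf.mp hy
    rw [Subgroup.mem_bot]
    have hyX : y ∈ Subgroup.centralizer (X : Set G) := by
      rw [hXz]
      exact Cfsg.Agent.Lib.Helper27.BG.mem_centralizer_zpowers
        ((Subgroup.mem_centralizer_iff.mp hyx) x (Set.mem_singleton x)).symm
    have hyP : y ∈ Subgroup.centralizer (P : Set G) :=
      (Subgroup.mem_inf.mp (h28 (Subgroup.mem_inf.mpr ⟨hyS, hyX⟩))).2
    by_contra hy1
    have hord1 : orderOf y ≠ 1 := fun h => hy1 (orderOf_eq_one_iff.mp h)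
    obtain ⟨s, hs, hsd⟩ := Nat.exists_prime_and_dvd hord1
    have hsσ : s ∈ sigma Ms := Cfsg.Agent.Lib.Helper67.BG.sigmaCore_isPi Ms s hs
      (hsd.trans (Subgroup.orderOf_dvd_natCard _ hyS))
    rcases hCMP y (hCX hyX) hyP s hs hsd with h | h
    · exact hσ s h hsσ
    · exact hpσ (h ▸ hsσ)
  -- Thompson: `P2` centralizes `M*_σ`
  have hSnorm := Cfsg.Agent.Lib.Helper67.BG.sigmaCore_normalizer Ms
  have hxMs : x ∈ Ms := hXMs hxX
  have hP2Ms : P2 ≤ Ms := hP2A.trans hAMs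
  have hcopSP2 : (Nat.card (sigmaCore Ms)).Coprime (Nat.card P2) := by
    rw [hP2card]
    exact ((Nat.Prime.coprime_iff_not_dvd hpp).mpr
      (fun h => hpσ (Cfsg.Agent.Lib.Helper67.BG.sigmaCore_isPi Ms p hpp h))).symm
  have hP2cS : P2 ≤ Subgroup.centralizer (sigmaCore Ms : Set G) :=
    le_centralizer_of_fpf_prime hrr hxr (hSnorm hxMs) hxP2 (hP2Ms.trans hSnorm) hSx hP2fpf hcopSP2
  -- `P2 = C_A(M*_σ)` is normal in `M*`
  have hSne : sigmaCore Ms ≠ ⊥ := sigmaCore_ne_bot hG h1405 Ms hMs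
  have hP2eq : A ⊓ Subgroup.centralizer (sigmaCore Ms : Set G) = P2 := by
    refine eq_of_le_of_le_card_sq (le_inf hP2A hP2cS) inf_le_left hP2card hAcard ?_
    intro h
    apply hSne
    have hAcS : A ≤ Subgroup.centralizer (sigmaCore Ms : Set G) := by
      rw [← h]; exact inf_le_right
    rw [eq_bot_iff, ← hCσA]
    exact le_inf le_rfl (Subgroup.le_centralizer_iff.mp hAcS)
  have hEP2 : E ≤ Subgroup.normalizer (P2 : Set G) := by
    rw [← hP2eq]
    exact Cfsg.Agent.Lib.Helper35.BG.le_normalizer_inf_of_le hEA ((hEMs.trans hSnorm).trans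
      (Cfsg.Agent.Lib.Helper35.BG.normalizer_le_normalizer_centralizer _))
  have hSP2 : sigmaCore Ms ≤ Subgroup.normalizer (P2 : Set G) :=
    (Subgroup.le_centralizer_iff.mp hP2cS).trans (Subgroup.centralizer_le_normalizer _)
  have hMsP2 : Ms ≤ Subgroup.normalizer (P2 : Set G) := by
    intro m hm
    obtain ⟨e, he, s, hs, rfl⟩ := hE.2.2.2 m hm
    exact Subgroup.mul_mem _ (hEP2 he) (hSP2 hs)
  have hP2ne : P2 ≠ ⊥ := by
    intro h
    rw [h, Subgroup.card_bot] at hP2card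
    exact hpp.one_lt.ne hP2card
  have hNP2 : Subgroup.normalizer (P2 : Set G) ≤ Ms :=
    (normalizer_eq_of_coatom hG hMs hP2Ms hP2ne hMsP2).le
  exact hNA (normalizer_le_of_two_lines hG hAea.1 hAea.2 hAcard hxA hCAx hlines hNP hNP2)

end Cfsg.Agent.Lib.Helper47.BG
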